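import Mathlib

/-!
# S5733: permutations with one short cycle of length divisible by `p` (helper819)

* `card_sing_le` : the number of permutations of order divisible by `p` is at most `n! Σ_{j ≤ n/p} 1/(jp)`;
* `card_good_ge` : the number of permutations of order prime to `p` with a given sign;
* `card_glue` : the number of even permutations with exactly one cycle of length divisible by `p`, of length `≤ J p`.
-/

set_option autoImplicit false

namespace Cfsg.Agent.H819.BS

open Equiv Equiv.Perm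

section

variable {α : Type*} [Fintype α] [DecidableEq α]

/-- the points fixed by `c` -/
abbrev Fx (c : Perm α) : Type _ := {a : α // c a = a}

theorem card_Fx (c : Perm α) : Fintype.card (Fx c) = Fintype.card α - c.support.card := by
  rw [Fintype.card_subtype, ← Finset.card_compl]
  congr 1
  ext a
  simp

/-- the cycles of length `d` -/
abbrev CY (α : Type*) [Fintype α] [DecidableEq α] (d : ℕ) : Type _ := {c : Perm α // c.cycleType = {d}}

theorem CY.card_support {d : ℕ} (c : CY α d) : (c : Perm α).support.card = d := by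
  rw [← Equiv.Perm.sum_cycleType, c.2, Multiset.sum_singleton]

theorem CY.isCycle {d : ℕ} (c : CY α d) : (c : Perm α).IsCycle := by
  rw [← Equiv.Perm.card_cycleType_eq_one, c.2, Multiset.card_singleton]

theorem card_CY_mul {d : ℕ} (h2 : 2 ≤ d) (hd : d ≤ Fintype.card α) :
    Nat.card (CY α d) * ((Fintype.card α - d).factorial * d) = (Fintype.card α).factorial := by
  have h := Equiv.Perm.card_of_cycleType_mul_eq α {d}
  rw [Nat.card_eq_fintype_card, Fintype.card_subtype]
  simpa [hd, h2] using h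

theorem card_CY_zero {d : ℕ} (h : ¬ (2 ≤ d ∧ d ≤ Fintype.card α)) : Nat.card (CY α d) = 0 := by
  rw [Nat.card_eq_zero]
  left
  refine ⟨fun c => h ⟨?_, ?_⟩⟩
  · exact Equiv.Perm.two_le_of_mem_cycleType (σ := (c : Perm α)) (by rw [c.2]; exact Multiset.mem_singleton_self d)
  · rw [← c.card_support]
    exact Finset.card_le_univ _

/-- `Σ_c (n - d)! = n! / d` -/
theorem sum_CY {d : ℕ} (h1 : 1 ≤ d) (hd : d ≤ Fintype.card α) :
    (Nat.card (CY α d) : ℝ) * ((Fintype.card α - d).factorial : ℝ) ≤ (Fintype.card α).factorial / d := by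
  have hd0 : (0 : ℝ) < d := by exact_mod_cast h1
  by_cases h2 : 2 ≤ d
  · rw [le_div_iff₀ hd0]
    have h := card_CY_mul (α := α) h2 hd
    have h' : (Nat.card (CY α d) : ℝ) * (((Fintype.card α - d).factorial : ℝ) * d) = (Fintype.card α).factorial := by
      exact_mod_cast h
    rw [mul_assoc, h']
  · rw [card_CY_zero (fun h => h2 h.1), Nat.cast_zero, zero_mul]
    positivity

omit [Fintype α] in
theorem disj (c : Perm α) (τ : Perm (Fx c)) : Disjoint c (ofSubtype τ) := by
  intro a
  by_cases h : c a = a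
  · exact Or.inl h
  · exact Or.inr (ofSubtype_apply_of_not_mem τ h)

omit [Fintype α] in
theorem exists_ofSubtype {c τ : Perm α} (h : Disjoint c τ) : ∃ τ' : Perm (Fx c), ofSubtype τ' = τ := by
  have h1 : ∀ x, c (τ x) = τ x ↔ c x = x := by
    intro x
    have h2 : c (τ x) = τ (c x) := by
      have := congrArg (fun f : Perm α => f x) h.commute.eq
      simpa using this
    rw [h2]
    exact τ.injective.eq_iff
  have h2 : ∀ x, τ x ≠ x → c x = x := fun x hx => (h x).resolve_right hx
  exact ⟨τ.subtypePerm h1, ofSubtype_subtypePerm h1 h2⟩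

theorem dvd_lcm {p : ℕ} (hp : p.Prime) {s : Multiset ℕ} (h : p ∣ s.lcm) : ∃ a ∈ s, p ∣ a := by
  induction s using Multiset.induction_on with
  | empty =>
    rw [Multiset.lcm_zero] at h
    exact absurd (Nat.dvd_one.1 h) hp.one_lt.ne'
  | cons a s ih =>
    rw [Multiset.lcm_cons] at h
    have h1 : p ∣ a * s.lcm := h.trans (Nat.lcm_dvd_mul _ _)
    rcases hp.dvd_mul.1 h1 with h2 | h2
    · exact ⟨a, Multiset.mem_cons_self a s, h2⟩
    · obtain ⟨b, hb, hb'⟩ := ih h2
      exact ⟨b, Multiset.mem_cons_of_mem hb, hb'⟩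

theorem exists_factor {p : ℕ} (hp : p.Prime) {σ : Perm α} (h : p ∣ orderOf σ) :
    ∃ j ∈ Finset.Icc 1 (Fintype.card α / p), ∃ (c : CY α (j * p)) (τ : Perm (Fx (c : Perm α))),
      σ = c * ofSubtype τ := by
  rw [← Equiv.Perm.lcm_cycleType] at h
  obtain ⟨d, hd, j, rfl⟩ := dvd_lcm hp h
  obtain ⟨c, τ, h1, h2, h3, h4⟩ := Equiv.Perm.mem_cycleType_iff.1 hd
  obtain ⟨τ', hτ'⟩ := exists_ofSubtype h2
  have hj : 1 ≤ j := by
    rcases Nat.eq_zero_or_pos j with rfl | h0
    · have := Equiv.Perm.two_le_of_mem_cycleType hd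
      omega
    · exact h0
  refine ⟨j, ?_, ⟨c, ?_⟩, τ', ?_⟩
  · rw [Finset.mem_Icc]
    refine ⟨hj, (Nat.le_div_iff_mul_le hp.pos).2 ?_⟩
    rw [mul_comm, ← h4]
    exact Finset.card_le_univ _
  · rw [h3.cycleType, h4, mul_comm]
  · rw [h1, hτ']

/-- **Permutations of order divisible by `p`.** -/
theorem card_sing_le {p : ℕ} (hp : p.Prime) :
    (Nat.card {σ : Perm α // p ∣ orderOf σ} : ℝ) ≤
      (Fintype.card α).factorial * ∑ j ∈ Finset.Icc 1 (Fintype.card α / p), 1 / ((j : ℝ) * p) := by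
  let X : Type _ := Σ j : {j // j ∈ Finset.Icc 1 (Fintype.card α / p)}, Σ c : CY α (j * p), Perm (Fx (c : Perm α))
  have hex : ∀ σ : {σ : Perm α // p ∣ orderOf σ}, ∃ x : X, (x.2.1 : Perm α) * ofSubtype x.2.2 = σ := by
    rintro ⟨σ, hσ⟩
    obtain ⟨j, hj, c, τ, h⟩ := exists_factor hp hσ
    exact ⟨⟨⟨j, hj⟩, c, τ⟩, h.symm⟩
  choose f hf using hex
  have hinj : Function.Injective f := by
    intro a b h
    apply Subtype.ext
    rw [← hf a, ← hf b, h]
  have h1 := Nat.card_le_card_of_injective f hinj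
  have h2 : Nat.card X = ∑ j : {j // j ∈ Finset.Icc 1 (Fintype.card α / p)},
      Nat.card (CY α (j * p)) * (Fintype.card α - j * p).factorial := by
    rw [Nat.card_sigma]
    refine Finset.sum_congr rfl fun j _ => ?_
    rw [Nat.card_sigma]
    rw [Finset.sum_congr rfl (fun c _ => ?_), Finset.sum_const, Finset.card_univ, ← Nat.card_eq_fintype_card,
      smul_eq_mul]
    rw [Nat.card_perm, Nat.card_eq_fintype_card, card_Fx, c.card_support]
  have h3 : (Nat.card X : ℝ) ≤ ∑ j : {j // j ∈ Finset.Icc 1 (Fintype.card α / p)},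
      ((Fintype.card α).factorial : ℝ) * (1 / ((j : ℕ) * p : ℝ)) := by
    rw [h2, Nat.cast_sum]
    refine Finset.sum_le_sum fun j _ => ?_
    have hj := Finset.mem_Icc.1 j.2
    have h4 : (j : ℕ) * p ≤ Fintype.card α := (Nat.le_div_iff_mul_le hp.pos).1 hj.2
    have h5 := sum_CY (α := α) (d := j * p) (Nat.mul_pos hj.1 hp.pos) h4
    rw [Nat.cast_mul]
    refine h5.trans (le_of_eq ?_)
    push_cast
    ring
  calc (Nat.card {σ : Perm α // p ∣ orderOf σ} : ℝ) ≤ Nat.card X := by exact_mod_cast h1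
    _ ≤ _ := h3
    _ = _ := by
      rw [Finset.mul_sum, Finset.sum_coe_sort (Finset.Icc 1 (Fintype.card α / p))
        (fun j : ℕ => ((Fintype.card α).factorial : ℝ) * (1 / ((j : ℝ) * p)))]

/-- half of the permutations have a given sign -/
theorem card_sign [Nontrivial α] (ε : ℤˣ) : 2 * Nat.card {τ : Perm α // sign τ = ε} = (Fintype.card α).factorial := by
  have h1 : 2 * Nat.card {τ : Perm α // sign τ = 1} = (Fintype.card α).factorial := by
    have h := two_mul_card_alternatingGroup (α := α)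
    rw [Fintype.card_perm] at h
    rw [← h, Nat.card_eq_fintype_card]
    congr 1
    exact Fintype.card_congr (Equiv.subtypeEquivRight fun τ => by rw [mem_alternatingGroup])
  rcases Int.units_eq_one_or ε with rfl | rfl
  · exact h1
  · have h2 := Nat.card_congr (Equiv.sumCompl (fun τ : Perm α => sign τ = 1))
    rw [Nat.card_sum, Nat.card_perm, Nat.card_eq_fintype_card (α := α)] at h2
    have h3 : Nat.card {τ : Perm α // ¬ sign τ = 1} = Nat.card {τ : Perm α // sign τ = -1} := by
      refine Nat.card_congr (Equiv.subtypeEquivRight fun τ => ?_)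
      rcases Int.units_eq_one_or (sign τ) with h | h <;> rw [h] <;> decide
    omega

/-- **Permutations of order prime to `p` with a given sign.** -/
theorem card_good_ge [Nontrivial α] {p : ℕ} (hp : p.Prime) (ε : ℤˣ)
    (hsum : ∑ j ∈ Finset.Icc 1 (Fintype.card α / p), 1 / ((j : ℝ) * p) ≤ 1 / 4) :
    ((Fintype.card α).factorial : ℝ) / 4 ≤ Nat.card {τ : Perm α // ¬ p ∣ orderOf τ ∧ sign τ = ε} := by
  have h1 := card_sign (α := α) ε
  have h2 := card_sing_le (α := α) hp
  have h3 : Nat.card {τ : Perm α // sign τ = ε} ≤ Nat.card {σ : Perm α // p ∣ orderOf σ} +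
      Nat.card {τ : Perm α // ¬ p ∣ orderOf τ ∧ sign τ = ε} := by
    rw [← Nat.card_sum]
    refine Nat.card_le_card_of_injective (fun τ : {τ : Perm α // sign τ = ε} =>
      if h : p ∣ orderOf (τ : Perm α) then
        (Sum.inl ⟨τ.1, h⟩ : {σ : Perm α // p ∣ orderOf σ} ⊕ {τ : Perm α // ¬ p ∣ orderOf τ ∧ sign τ = ε})
      else Sum.inr ⟨τ.1, h, τ.2⟩) ?_
    intro a b hab
    simp only at hab
    split_ifs at hab with ha hb hb
    · have h := Sum.inl.inj hab
      exact Subtype.ext (Subtype.mk.inj h)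
    · have h := Sum.inr.inj hab
      exact Subtype.ext (Subtype.mk.inj h)
  have h4 : ((Fintype.card α).factorial : ℝ) * ∑ j ∈ Finset.Icc 1 (Fintype.card α / p), 1 / ((j : ℝ) * p) ≤
      ((Fintype.card α).factorial : ℝ) * (1 / 4) := mul_le_mul_of_nonneg_left hsum (by positivity)
  have h5 : (2 : ℝ) * Nat.card {τ : Perm α // sign τ = ε} = (Fintype.card α).factorial := by exact_mod_cast h1
  have h6 : (Nat.card {τ : Perm α // sign τ = ε} : ℝ) ≤ Nat.card {σ : Perm α // p ∣ orderOf σ} +
      Nat.card {τ : Perm α // ¬ p ∣ orderOf τ ∧ sign τ = ε} := by exact_mod_cast h3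
  linarith

/-- uniqueness of the cycle -/
theorem glue_inj {p d d' : ℕ} {c : CY α d} {c' : CY α d'} (hd' : p ∣ d')
    {τ : Perm (Fx (c : Perm α))} {τ' : Perm (Fx (c' : Perm α))} (hτ : ¬ p ∣ orderOf τ)
    (h : (c : Perm α) * ofSubtype τ = c' * ofSubtype τ') : (c' : Perm α) = c := by
  have h1 : (c' : Perm α) ∈ ((c' : Perm α) * ofSubtype τ').cycleFactorsFinset := by
    rw [(disj (c' : Perm α) τ').cycleFactorsFinset_mul_eq_union, c'.isCycle.cycleFactorsFinset_eq_singleton]
    exact Finset.mem_union_left _ (Finset.mem_singleton_self _)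
  rw [← h, (disj (c : Perm α) τ).cycleFactorsFinset_mul_eq_union, c.isCycle.cycleFactorsFinset_eq_singleton,
    Finset.mem_union, Finset.mem_singleton] at h1
  rcases h1 with h1 | h1
  · exact h1
  · exfalso
    apply hτ
    have h2 : (c' : Perm α).support.card ∈ (ofSubtype τ : Perm α).cycleType := by
      rw [Equiv.Perm.cycleType_def]
      exact Multiset.mem_map_of_mem _ h1
    rw [c'.card_support] at h2
    have h3 := (hd'.trans (Equiv.Perm.dvd_of_mem_cycleType h2))
    rwa [orderOf_injective (ofSubtype : Perm (Fx (c : Perm α)) →* Perm α) ofSubtype_injective τ] at h3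

/-- **The even permutations with one short cycle of length divisible by `p`.** -/
theorem card_glue {p J : ℕ} (hp : p.Prime) (hJ : J * p + 2 ≤ Fintype.card α)
    (hsum : ∑ j ∈ Finset.Icc 1 (Fintype.card α / p), 1 / ((j : ℝ) * p) ≤ 1 / 4) :
    ((Fintype.card α).factorial : ℝ) / 4 * ∑ j ∈ Finset.Icc 1 J, 1 / ((j : ℝ) * p) ≤
      Nat.card {σ : Perm α // sign σ = 1 ∧ ∃ k : ℕ, σ ^ k ≠ 1 ∧ (σ ^ k).support.card ≤ J * p} := by
  let X : Type _ := Σ j : {j // j ∈ Finset.Icc 1 J}, Σ c : CY α (j * p),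
    {τ : Perm (Fx (c : Perm α)) // ¬ p ∣ orderOf τ ∧ sign τ = sign (c : Perm α)}
  have hle : ∀ j : {j // j ∈ Finset.Icc 1 J}, (j : ℕ) * p ≤ J * p := fun j =>
    Nat.mul_le_mul_right _ (Finset.mem_Icc.1 j.2).2
  let F : X → {σ : Perm α // sign σ = 1 ∧ ∃ k : ℕ, σ ^ k ≠ 1 ∧ (σ ^ k).support.card ≤ J * p} := fun x =>
    ⟨(x.2.1 : Perm α) * ofSubtype x.2.2.1, by
      rw [map_mul, sign_ofSubtype, x.2.2.2.2, Int.units_mul_self], orderOf x.2.2.1, by
      have hc := (disj (x.2.1 : Perm α) x.2.2.1).commute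
      have h1 : (ofSubtype x.2.2.1 : Perm α) ^ orderOf x.2.2.1 = 1 := by rw [← map_pow, pow_orderOf_eq_one, map_one]
      rw [hc.mul_pow, h1, mul_one]
      constructor
      · intro h
        have h2 := orderOf_dvd_of_pow_eq_one h
        rw [x.2.1.isCycle.orderOf, x.2.1.card_support] at h2
        exact x.2.2.2.1 ((Dvd.intro_left _ rfl).trans h2)
      · refine (Finset.card_le_card (support_pow_le _ _)).trans ?_
        rw [x.2.1.card_support]
        exact hle x.1⟩
  have hinj : Function.Injective F := by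
    rintro ⟨⟨j, hj⟩, ⟨c, hc⟩, ⟨τ, hτ, hτs⟩⟩ ⟨⟨j', hj'⟩, ⟨c', hc'⟩, ⟨τ', hτ', hτs'⟩⟩ h
    have h1 : c * ofSubtype τ = c' * ofSubtype τ' := congrArg Subtype.val h
    have h2 : c' = c := glue_inj (p := p) (c := ⟨c, hc⟩) (c' := ⟨c', hc'⟩) (Dvd.intro_left _ rfl) hτ h1
    subst h2
    have h3 : j = j' := by
      have h4 : j * p = j' * p := Multiset.singleton_inj.1 (hc.symm.trans hc')
      exact Nat.eq_of_mul_eq_mul_right hp.pos h4
    subst h3
    have h5 : τ = τ' := ofSubtype_injective (mul_left_cancel h1)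
    subst h5
    rfl
  have h1 := Nat.card_le_card_of_injective F hinj
  have h2 : ((Fintype.card α).factorial : ℝ) / 4 * ∑ j ∈ Finset.Icc 1 J, 1 / ((j : ℝ) * p) ≤ Nat.card X := by
    rw [Nat.card_sigma, Nat.cast_sum, Finset.mul_sum, ← Finset.sum_coe_sort (Finset.Icc 1 J)
        (fun j : ℕ => ((Fintype.card α).factorial : ℝ) / 4 * (1 / ((j : ℝ) * p)))]
    refine Finset.sum_le_sum fun j _ => ?_
    rw [Nat.card_sigma, Nat.cast_sum]
    have hj := Finset.mem_Icc.1 j.2
    have hj0 : 0 < (j : ℕ) := hj.1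
    have hjp : 2 ≤ (j : ℕ) * p := hp.two_le.trans (Nat.le_mul_of_pos_left p hj0)
    have hjc : (j : ℕ) * p + 2 ≤ Fintype.card α := by
      have := hle j
      omega
    have h3 : ∀ c : CY α (j * p), ((Fintype.card α - j * p).factorial : ℝ) / 4 ≤
        Nat.card {τ : Perm (Fx (c : Perm α)) // ¬ p ∣ orderOf τ ∧ sign τ = sign (c : Perm α)} := by
      intro c
      have h4 : Fintype.card (Fx (c : Perm α)) = Fintype.card α - j * p := by rw [card_Fx, c.card_support]
      have h5 : Nontrivial (Fx (c : Perm α)) := by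
        rw [← Fintype.one_lt_card_iff_nontrivial, h4]
        omega
      rw [← h4]
      refine card_good_ge hp _ (le_trans ?_ hsum)
      refine Finset.sum_le_sum_of_subset_of_nonneg ?_ (fun _ _ _ => by positivity)
      refine Finset.Icc_subset_Icc le_rfl (Nat.div_le_div_right ?_)
      rw [h4]
      omega
    have h6 := card_CY_mul (α := α) hjp (by omega)
    calc ((Fintype.card α).factorial : ℝ) / 4 * (1 / ((j : ℕ) * p : ℝ)) =
          ∑ _c : CY α (j * p), ((Fintype.card α - j * p).factorial : ℝ) / 4 := by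
          rw [Finset.sum_const, Finset.card_univ, ← Nat.card_eq_fintype_card (α := CY α (j * p)), nsmul_eq_mul, ← h6]
          have h7 : ((j : ℕ) : ℝ) ≠ 0 := by exact_mod_cast hj0.ne'
          have h8 : (p : ℝ) ≠ 0 := by exact_mod_cast hp.ne_zero
          push_cast
          field_simp
      _ ≤ _ := Finset.sum_le_sum fun c _ => h3 c
  exact h2.trans (by exact_mod_cast h1)

end

end Cfsg.Agent.H819.BS
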